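import Groth.Agent.Lib.HilbertSamuel.Mult
import Mathlib.Algebra.Group.ForwardDiff
import Mathlib.RingTheory.Ideal.Quotient.Operations

/-!
# The number of top-dimensional components is bounded by a colength
-/

set_option autoImplicit false
set_option linter.style.haveILetI false

universe u

open Filter Topology

namespace Groth.Agent.Lib.SquarefreeElt.Bound

open HilbertSamuel HilbertSamuel.Basic

variable {A : Type u} [CommRing A] [IsNoetherianRing A] {I : Ideal A}

/-- The top coefficient of a Hilbert–Samuel function is at least `1 / n!`. -/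
theorem one_le_mul_factorial {M : Type u} [AddCommGroup M] [Module A M] [Module.Finite A M]
    (hJ : I ≤ Ideal.jacobson ⊥) (hM : Hyp I M) {n : ℕ} (hdim : Module.supportDim A M = n) {L : ℝ}
    (hL : Tendsto (fun t : ℕ => (chi I M t : ℝ) / (t : ℝ) ^ n) atTop (𝓝 L)) :
    1 ≤ L * n.factorial := by
  obtain ⟨P, hP⟩ := Main.exists_poly hM
  have hdeg := Poly.natDegree_le_of_growth hP (Dim.growth_of_supportDim_le hJ n M hM hdim.le)
  have hcoef : L = (P.coeff n : ℝ) := tendsto_nhds_unique hL (Limit.tendsto_chi_coeff hP hdeg)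
  obtain ⟨L', hpos, hL'⟩ := Limit.exists_tendsto_chi_pos hJ hM hdim
  rw [tendsto_nhds_unique hL' hL] at hpos
  have hpos' : (0 : ℚ) < P.coeff n := by rw [hcoef] at hpos; exact_mod_cast hpos
  have hnd : P.natDegree = n :=
    le_antisymm hdeg (Polynomial.le_natDegree_of_ne_zero hpos'.ne')
  obtain ⟨T, hT⟩ := eventually_atTop.1 hP
  have key := congrFun (Polynomial.fwdDiff_iter_degree_eq_factorial P) (T : ℚ)
  rw [fwdDiff_iter_eq_sum_shift, hnd] at key
  obtain ⟨z, hz⟩ : ∃ z : ℤ, (P.coeff n) * (n.factorial : ℚ) = (z : ℚ) := by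
    refine ⟨∑ k ∈ Finset.range (n + 1), ((-1 : ℤ) ^ (n - k) * n.choose k) * (chi I M (T + k) : ℤ), ?_⟩
    have hlead : P.leadingCoeff = P.coeff n := by rw [Polynomial.leadingCoeff, hnd]
    rw [hlead] at key
    simp only [Pi.smul_apply, Pi.natCast_apply, smul_eq_mul] at key
    rw [← key, Int.cast_sum]
    refine Finset.sum_congr rfl fun k _ => ?_
    rw [nsmul_one, ← Nat.cast_add, ← hT (T + k) (Nat.le_add_right T k), zsmul_eq_mul]
    push_cast
    ring
  have hz1 : (1 : ℤ) ≤ z := by
    have : (0 : ℚ) < (z : ℚ) := hz ▸ mul_pos hpos' (by exact_mod_cast n.factorial_pos)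
    exact_mod_cast this
  rw [hcoef]
  have : (1 : ℚ) ≤ P.coeff n * n.factorial := hz ▸ (by exact_mod_cast hz1)
  exact_mod_cast this

variable [IsLocalRing A]

/-- Each of the components of dimension `n` contributes. -/
theorem exists_limit (hI : I ≤ IsLocalRing.maximalIdeal A) {N : ℕ}
    (hN : IsLocalRing.maximalIdeal A ^ N ≤ I) (n : ℕ) (Q : Finset (Ideal A)) :
    (∀ q ∈ Q, q.IsPrime) → (∀ q ∈ Q, ringKrullDim (A ⧸ q) = n) →
    (∀ q ∈ Q, ∀ q' ∈ Q, q' ≤ q → q' = q) →
    ∃ L : ℝ, (Q.card : ℝ) ≤ L * n.factorial ∧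
      Tendsto (fun t : ℕ => (chi I (A ⧸ Q.inf id) t : ℝ) / (t : ℝ) ^ n) atTop (𝓝 L) := by
  classical
  induction Q using Finset.induction_on with
  | empty =>
    intro _ _ _
    refine ⟨0, by simp, ?_⟩
    have : Subsingleton (A ⧸ (∅ : Finset (Ideal A)).inf id) :=
      Ideal.Quotient.subsingleton_iff.2 Finset.inf_empty
    have : ∀ t, chi I (A ⧸ (∅ : Finset (Ideal A)).inf id) t = 0 := fun t => by simp [chi, len]
    simp [this]
  | @insert q Q hq ih =>
    intro hp hd hinc
    obtain ⟨L, hL, hlim⟩ := ih (fun a ha => hp a (Finset.mem_insert_of_mem ha))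
      (fun a ha => hd a (Finset.mem_insert_of_mem ha))
      fun a ha b hb => hinc a (Finset.mem_insert_of_mem ha) b (Finset.mem_insert_of_mem hb)
    have hqp := hp q (Finset.mem_insert_self q Q)
    set K := Q.inf id with hK
    set K' := (insert q Q).inf id with hK'
    have hK'eq : K' = q ⊓ K := by rw [hK', Finset.inf_insert]; rfl
    have hle : K' ≤ K := hK'eq ▸ inf_le_right
    have hKq : ¬ K ≤ q := by
      intro h
      obtain ⟨a, ha, haq⟩ := (Ideal.IsPrime.inf_le' hqp).1 h
      exact hq (hinc q (Finset.mem_insert_self q Q) a (Finset.mem_insert_of_mem ha) haq ▸ ha)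
    let W : Submodule A (A ⧸ K') := Submodule.map (Submodule.mkQ K') K
    let g : (A ⧸ K') →ₗ[A] (A ⧸ K) := Submodule.factor hle
    have hg : Function.Surjective g := Submodule.factor_surjective hle
    have hrange : LinearMap.range W.subtype = LinearMap.ker g := by
      rw [Submodule.range_subtype]
      ext z
      obtain ⟨z, rfl⟩ := Submodule.mkQ_surjective _ z
      constructor
      · rintro ⟨a, ha, hza⟩
        rw [LinearMap.mem_ker, ← hza]
        exact (Submodule.Quotient.mk_eq_zero K).2 ha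
      · intro hz
        exact ⟨z, (Submodule.Quotient.mk_eq_zero K).1 hz, rfl⟩
    have hann : Module.annihilator A W = q := by
      ext x
      rw [Module.mem_annihilator]
      constructor
      · intro hx
        obtain ⟨a, haK, haq⟩ := SetLike.not_le_iff_exists.1 hKq
        have := congrArg Subtype.val (hx ⟨Submodule.mkQ K' a, a, haK, rfl⟩)
        rw [SetLike.val_smul, ← map_smul, ZeroMemClass.coe_zero, Submodule.mkQ_apply,
          Submodule.Quotient.mk_eq_zero, hK'eq] at this
        exact (hqp.mem_or_mem this.1).resolve_right haq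
      · rintro hx ⟨_, a, haK, rfl⟩
        refine Subtype.ext ?_
        rw [SetLike.val_smul, ← map_smul, ZeroMemClass.coe_zero, Submodule.mkQ_apply,
          Submodule.Quotient.mk_eq_zero, hK'eq]
        exact ⟨q.mul_mem_right a hx, K.mul_mem_left x haK⟩
    have hWdim : Module.supportDim A W = n := by
      rw [Module.supportDim_eq_ringKrullDim_quotient_annihilator, hann]
      exact hd q (Finset.mem_insert_self q Q)
    have hJ := Mult.le_jacobson hI
    obtain ⟨LW, hLW⟩ := Limit.exists_tendsto_chi hJ (Mult.hyp_of_pow_le hN W) hWdim.le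
    refine ⟨LW + L, ?_, Mult.tendsto_add (Mult.hyp_of_pow_le hN _) W.subtype g W.injective_subtype hg
      hrange hLW hlim⟩
    have h1 := one_le_mul_factorial hJ (Mult.hyp_of_pow_le hN W) hWdim hLW
    rw [Finset.card_insert_of_notMem hq]
    push_cast
    rw [add_mul]
    linarith

/-- The number of `n`-dimensional components of `V(f)` is bounded by `length (A / (f, y₁, …, yₙ))`. -/
theorem card_le_len (f : A) (n : ℕ) (y : Fin n → A)
    (hIm : I ≤ IsLocalRing.maximalIdeal A) {N : ℕ} (hN : IsLocalRing.maximalIdeal A ^ N ≤ I)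
    (hI : I = Ideal.span {f} ⊔ Ideal.span (Set.range y)) (Q : Finset (Ideal A))
    (hp : ∀ q ∈ Q, q.IsPrime) (hd : ∀ q ∈ Q, ringKrullDim (A ⧸ q) = n)
    (hinc : ∀ q ∈ Q, ∀ q' ∈ Q, q' ≤ q → q' = q) (hf : ∀ q ∈ Q, f ∈ q) :
    Q.card ≤ len (I : Submodule A A) := by
  obtain ⟨L, hL, hlim⟩ := exists_limit hIm hN n Q hp hd hinc
  let F := A ⧸ Ideal.span {f}
  have hle : Ideal.span {f} ≤ Q.inf id := Finset.le_inf fun q hq => by
    simpa [Ideal.span_le] using hf q hq
  have hF := Mult.hyp_of_pow_le hN F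
  have hmono : ∀ t, chi I (A ⧸ Q.inf id) t ≤ chi I F t := fun t => by
    rw [chi_quotient hF (Mult.hyp_of_pow_le hN _) (Submodule.factor hle)
      (Submodule.factor_surjective hle) t]
    exact len_anti hF le_sup_left le_rfl
  have hgen : (I • ⊤ : Submodule A F) ≤ Ideal.span (Set.range y) • ⊤ := by
    rw [hI, Submodule.sup_smul, sup_le_iff]
    refine ⟨?_, le_rfl⟩
    refine Submodule.smul_le.2 fun a ha v _ => ?_
    obtain ⟨v, rfl⟩ := Submodule.mkQ_surjective _ v
    rw [← map_smul, show Submodule.mkQ (Ideal.span {f}) (a • v) = 0 from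
      (Submodule.Quotient.mk_eq_zero _).2 (Ideal.mul_mem_right _ _ ha)]
    exact zero_mem _
  have hy : ∀ i, y i ∈ I := fun i => hI ▸ Ideal.mem_sup_right (Ideal.subset_span ⟨i, rfl⟩)
  have hub := Mult.chi_le_choose n y F hF hy hgen
  have h1 : chi I F 1 = len (I : Submodule A A) := by
    rw [chi_quotient (Mult.hyp_of_pow_le hN A) hF (Submodule.mkQ (Ideal.span {f}))
      (Submodule.mkQ_surjective _) 1, Submodule.ker_mkQ, pow_one, smul_eq_mul, Ideal.mul_top]
    congr 1
    exact sup_eq_left.2 (hI ▸ le_sup_left)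
  set c := chi I F 1 with hc
  have hbound : ∀ t : ℕ, (chi I (A ⧸ Q.inf id) t : ℝ) * n.factorial ≤ c * ((t : ℝ) + n) ^ n := by
    intro t
    have h2 : chi I (A ⧸ Q.inf id) t * n.factorial ≤ c * (t + n) ^ n := by
      calc chi I (A ⧸ Q.inf id) t * n.factorial
          ≤ c * (t + n - 1).choose n * n.factorial :=
            Nat.mul_le_mul_right _ ((hmono t).trans (hub t))
        _ = c * (t + n - 1).descFactorial n := by
            rw [mul_assoc, Nat.descFactorial_eq_factorial_mul_choose, mul_comm n.factorial]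
        _ ≤ c * (t + n) ^ n := Nat.mul_le_mul_left _ ((Nat.descFactorial_le_pow _ _).trans
            (Nat.pow_le_pow_left (Nat.sub_le _ _) _))
    exact_mod_cast h2
  have hlim2 : Tendsto (fun t : ℕ => (c : ℝ) * (((t : ℝ) + n) / (t : ℝ)) ^ n) atTop (𝓝 (c : ℝ)) := by
    have h : Tendsto (fun t : ℕ => 1 + (n : ℝ) / (t : ℝ)) atTop (𝓝 1) := by
      simpa using (tendsto_const_div_atTop_nhds_zero_nat (n : ℝ)).const_add 1
    have h' : Tendsto (fun t : ℕ => ((t : ℝ) + n) / (t : ℝ)) atTop (𝓝 1) := by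
      refine h.congr' ?_
      filter_upwards [eventually_ge_atTop 1] with t ht
      rw [add_div, div_self (by positivity)]
    simpa using (h'.pow n).const_mul (c : ℝ)
  have hfin : L * n.factorial ≤ (c : ℝ) := by
    refine le_of_tendsto_of_tendsto (hlim.mul_const (n.factorial : ℝ)) hlim2 ?_
    filter_upwards [eventually_ge_atTop 1] with t ht
    rw [div_pow, ← mul_div_assoc, div_mul_eq_mul_div]
    exact div_le_div_of_nonneg_right (hbound t) (by positivity)
  rw [← h1]
  exact_mod_cast hL.trans hfin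

end Groth.Agent.Lib.SquarefreeElt.Bound
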