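import Groth.Agent.Lib.SquarefreeElt.Main
import Groth.Agent.H18.CatDim

/-!
# The dimension hypothesis of `exists_squarefree`
-/

set_option autoImplicit false

universe u

namespace Groth.Agent.Lib.SquarefreeElt.Cat

open Perturb IsLocalRing

variable {R : Type u} [CommRing R] [IsDomain R] [IsNoetherianRing R] [IsLocalRing R]

theorem exists_nat_dim : ∃ k : ℕ, ringKrullDim R = k := Main.exists_parameters.exists_nat_dim R

theorem dim_of_catenary (hc : CAlg.IsCatenary R) {n : ℕ} (hd : ringKrullDim R = (n + 1 : ℕ))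
    (q : Ideal R) (hq : q.IsPrime) (hq1 : q.height = 1) : ringKrullDim (R ⧸ q) = n := by
  let q' : PrimeSpectrum R := ⟨q, hq⟩
  let b : PrimeSpectrum R := ⟨⊥, Ideal.isPrime_bot⟩
  have hne : q ≠ ⊥ := by rintro rfl; rw [Ideal.height_bot] at hq1; exact zero_ne_one hq1
  have hlt : b < q' := lt_of_le_of_ne (show (⊥ : Ideal R) ≤ q from bot_le) fun h =>
    hne (congrArg PrimeSpectrum.asIdeal h).symm
  have hcov : b ⋖ q' := ⟨hlt, fun c h1 h2 => by
    have h3 : c.asIdeal < q := h2
    have h4 := (Ideal.height_add_one_le_of_lt_of_isPrime h3).trans hq1.le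
    have h5 : c.asIdeal.height = 0 :=
      le_antisymm ((ENat.add_le_add_iff_right ENat.one_ne_top).1 (h4.trans_eq (zero_add 1).symm)) bot_le
    exact h1.ne' (PrimeSpectrum.ext (Ideal.height_eq_zero_iff_eq_bot.1 h5))⟩
  have h := ((H18.CatDim.isCatenary_iff).1 hc b q' hlt).2 hcov
  rw [show ringKrullDim (R ⧸ b.asIdeal) = ringKrullDim R from
    ringKrullDim_eq_of_ringEquiv (RingEquiv.quotientBot R), hd] at h
  haveI : Nontrivial (R ⧸ q) := Ideal.Quotient.nontrivial_iff.2 hq.ne_top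
  haveI : IsLocalRing (R ⧸ q) := .of_surjective' _ Ideal.Quotient.mk_surjective
  obtain ⟨k, hk⟩ := Main.exists_parameters.exists_nat_dim (R ⧸ q)
  change ((n + 1 : ℕ) : WithBot ℕ∞) = ringKrullDim (R ⧸ q) + 1 at h
  rw [hk] at h ⊢
  norm_cast at h ⊢
  omega

theorem dim_of_two (hd : ringKrullDim R = 2) (q : Ideal R) (hq : q.IsPrime) (hq1 : q.height = 1) :
    ringKrullDim (R ⧸ q) = (1 : ℕ) := by
  haveI : Nontrivial (R ⧸ q) := Ideal.Quotient.nontrivial_iff.2 hq.ne_top
  haveI : IsLocalRing (R ⧸ q) := .of_surjective' _ Ideal.Quotient.mk_surjective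
  obtain ⟨k, hk⟩ := Main.exists_parameters.exists_nat_dim (R ⧸ q)
  have hne : q ≠ ⊥ := by rintro rfl; rw [Ideal.height_bot] at hq1; exact zero_ne_one hq1
  obtain ⟨x, hx, hx0⟩ := Submodule.exists_mem_ne_zero_of_ne_bot hne
  have h1 : ringKrullDim (R ⧸ q) + 1 ≤ ringKrullDim R :=
    le_trans (add_le_add_left (ringKrullDim_le_of_surjective
      (Ideal.Quotient.factor (show Ideal.span {x} ≤ q by simpa [Ideal.span_le] using hx))
      (Ideal.Quotient.factor_surjective _)) 1)
      (ringKrullDim_quotient_succ_le_of_nonZeroDivisor (mem_nonZeroDivisors_of_ne_zero hx0))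
  rw [hd, hk] at h1
  have hk0 : k ≠ 0 := by
    rintro rfl
    haveI : Ring.KrullDimLE 0 (R ⧸ q) := by rw [Ring.krullDimLE_iff, hk]
    have : q.IsMaximal := Ideal.Quotient.maximal_of_isField _ Ring.KrullDimLE.isField_of_isDomain
    have h2 := maximalIdeal_height_eq_ringKrullDim (R := R)
    rw [← eq_maximalIdeal this, hq1, hd] at h2
    norm_cast at h2
  rw [hk]
  norm_cast at h1 ⊢
  omega

end Groth.Agent.Lib.SquarefreeElt.Cat
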