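import Groth.Agent.Lib.RefHull.NormalAlg
import Mathlib.RingTheory.DiscreteValuationRing.TFAE
import Mathlib.RingTheory.Ideal.MinimalPrime.Noetherian
import Mathlib.RingTheory.Localization.AtPrime.Basic
import Mathlib.RingTheory.Nilpotent.Lemmas

/-!
# Removing a multiple component of `V(f)` by a small perturbation
-/

set_option autoImplicit false
set_option linter.style.haveILetI false

universe u

namespace Groth.Agent.Lib.SquarefreeElt.Perturb

variable {R : Type u} [CommRing R] [IsDomain R] [IsNoetherianRing R] [IsIntegrallyClosed R]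

/-- `f` lies in the second symbolic power of `q`. -/
def Bad (q : Ideal R) (f : R) : Prop := ∃ s ∉ q, s * f ∈ q ^ 2

omit [IsDomain R] [IsNoetherianRing R] [IsIntegrallyClosed R] in
theorem bad_zero {q : Ideal R} (hq : q.IsPrime) : Bad q 0 :=
  ⟨1, fun h => hq.ne_top ((Ideal.eq_top_iff_one q).2 h), by simp⟩

/-- A prime of height one containing `f ≠ 0` is minimal over `(f)`. -/
theorem mem_minimalPrimes {q : Ideal R} [q.IsPrime] (hq : q.height = 1) {f : R} (hf0 : f ≠ 0)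
    (hf : f ∈ q) : q ∈ (Ideal.span {f}).minimalPrimes := by
  obtain ⟨p, hp, hpq⟩ := Ideal.exists_minimalPrimes_le (I := Ideal.span {f}) (J := q)
    (by simpa [Ideal.span_le] using hf)
  haveI := hp.1.1
  rcases hpq.lt_or_eq with h | h
  · have h1 := (Ideal.height_add_one_le_of_lt_of_isPrime h).trans hq.le
    have h2 : p.height = 0 :=
      le_antisymm ((ENat.add_le_add_iff_right ENat.one_ne_top).1 (h1.trans_eq (zero_add 1).symm))
        bot_le
    rw [Ideal.height_eq_zero_iff_eq_bot.1 h2] at hp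
    exact absurd ((Ideal.span_singleton_le_iff_mem _).1 hp.1.2) (by simpa using hf0)
  · exact h ▸ hp

theorem eq_of_le {p q : Ideal R} [p.IsPrime] [q.IsPrime] (hp : p.height = 1) (hq : q.height = 1)
    (h : p ≤ q) : p = q := by
  rcases h.lt_or_eq with h | h
  · have h1 := Ideal.height_add_one_le_of_lt_of_isPrime h
    rw [hp, hq] at h1
    exact absurd h1 (by decide)
  · exact h

theorem exists_uniformizer {q : Ideal R} [q.IsPrime] (hq : q.height = 1) :
    ∃ π ∈ q, ∀ x ∈ q, ∃ s ∉ q, π ∣ s * x := by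
  let L := Localization.AtPrime q
  haveI : IsDomain L := IsLocalization.isDomain_localization q.primeCompl_le_nonZeroDivisors
  haveI : IsIntegrallyClosed L :=
    isIntegrallyClosed_of_isLocalization L q.primeCompl q.primeCompl_le_nonZeroDivisors
  haveI : Ring.KrullDimLE 1 L := by
    rw [Ring.krullDimLE_iff, IsLocalization.AtPrime.ringKrullDim_eq_height q L, hq]
    rfl
  have hprin : (IsLocalRing.maximalIdeal L).IsPrincipal :=
    ((tfae_of_isNoetherianRing_of_isLocalRing_of_isDomain L).out 4 3).2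
      (show IsIntegrallyClosed L ∧ ∀ P : Ideal L, P ≠ ⊥ → P.IsPrime → P = IsLocalRing.maximalIdeal L from
      ⟨inferInstance, fun P hP hP' => IsLocalRing.eq_maximalIdeal
        (P.isMaximal_of_isPrime_of_ne_bot hP)⟩)
  obtain ⟨⟨z, hz⟩⟩ := hprin
  obtain ⟨⟨π, t⟩, hπt⟩ := IsLocalization.surj q.primeCompl z
  dsimp only at hπt
  have hzm : z ∈ IsLocalRing.maximalIdeal L := hz ▸ Submodule.mem_span_singleton_self z
  refine ⟨π, (IsLocalization.AtPrime.to_map_mem_maximal_iff L q π).1 (hπt ▸ Ideal.mul_mem_right _ _ hzm),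
    fun x hx => ?_⟩
  have hxm := (IsLocalization.AtPrime.to_map_mem_maximal_iff L q x).2 hx
  rw [hz] at hxm
  obtain ⟨w, hw⟩ := Submodule.mem_span_singleton.1 hxm
  obtain ⟨⟨a, s⟩, has⟩ := IsLocalization.surj q.primeCompl w
  dsimp only at has
  refine ⟨s * t, fun h => (Ideal.IsPrime.mem_or_mem ‹_› h).elim s.2 t.2, a, ?_⟩
  apply IsLocalization.injective L q.primeCompl_le_nonZeroDivisors
  simp only [map_mul, ← hπt, ← has, ← hw, smul_eq_mul]
  ring

/-- A uniformizer at a height one prime. -/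
theorem dvd_of_mem_sq {q : Ideal R} [q.IsPrime] {π : R} (hπ : ∀ x ∈ q, ∃ s ∉ q, π ∣ s * x)
    {x : R} (hx : x ∈ q ^ 2) : ∃ s ∉ q, π * π ∣ s * x := by
  rw [pow_two] at hx
  induction hx using Submodule.mul_induction_on' with
  | mem_mul_mem a ha b hb =>
    obtain ⟨s, hs, a', ha'⟩ := hπ a ha
    obtain ⟨t, ht, b', hb'⟩ := hπ b hb
    refine ⟨s * t, fun h => (Ideal.IsPrime.mem_or_mem ‹_› h).elim hs ht, a' * b', ?_⟩
    calc s * t * (a * b) = (s * a) * (t * b) := by ring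
      _ = _ := by rw [ha', hb']; ring
  | add a _ b _ ha hb =>
    obtain ⟨s, hs, a', ha'⟩ := ha
    obtain ⟨t, ht, b', hb'⟩ := hb
    refine ⟨s * t, fun h => (Ideal.IsPrime.mem_or_mem ‹_› h).elim hs ht, t * a' + s * b', ?_⟩
    calc s * t * (a + b) = t * (s * a) + s * (t * b) := by ring
      _ = _ := by rw [ha', hb']; ring

theorem not_bad_uniformizer {q : Ideal R} [q.IsPrime] (hq : q.height = 1) {π : R} (hπq : π ∈ q)
    (hπ : ∀ x ∈ q, ∃ s ∉ q, π ∣ s * x) : ¬ Bad q π := by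
  rintro ⟨s, hs, hsq⟩
  obtain ⟨t, ht, c, hc⟩ := dvd_of_mem_sq hπ hsq
  have hπ0 : π ≠ 0 := by
    rintro rfl
    obtain ⟨x, hx, hx0⟩ := Submodule.exists_mem_ne_zero_of_ne_bot (p := q) (fun h => by
      rw [h, Ideal.height_bot] at hq; exact zero_ne_one hq)
    obtain ⟨u, hu, hd⟩ := hπ x hx
    rw [zero_dvd_iff, mul_eq_zero] at hd
    exact hd.elim (fun h => hu (h ▸ q.zero_mem)) hx0
  have : π * (t * s) = π * (π * c) := by rw [← mul_assoc π π c, ← hc]; ring
  rw [mul_right_inj' hπ0] at this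
  exact (Ideal.IsPrime.mem_or_mem ‹_› (this ▸ q.mul_mem_right c hπq)).elim ht hs

omit [IsDomain R] [IsIntegrallyClosed R] in
/-- An element off the other minimal primes carries a minimal prime into the radical. -/
theorem exists_notMem_mul_le_radical {K q : Ideal R} (hq : q ∈ K.minimalPrimes) :
    ∃ s ∉ q, ∀ x ∈ q, s * x ∈ K.radical := by
  classical
  haveI := hq.1.1
  have hfin := K.finite_minimalPrimes_of_isNoetherianRing R
  have h : ¬ (hfin.toFinset.erase q).inf id ≤ q := by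
    intro h
    obtain ⟨p, hp, hpq⟩ := (Ideal.IsPrime.inf_le' ‹_›).1 h
    obtain ⟨hne, hp⟩ := Finset.mem_erase.1 hp
    rw [Set.Finite.mem_toFinset] at hp
    exact hne (le_antisymm hpq (hq.2 ⟨hp.1.1, hp.1.2⟩ hpq))
  obtain ⟨s, hs, hsq⟩ := SetLike.not_le_iff_exists.1 h
  refine ⟨s, hsq, fun x hx => ?_⟩
  rw [← Ideal.sInf_minimalPrimes, Submodule.mem_sInf]
  intro p hp
  by_cases hpq : p = q
  · exact Ideal.mul_mem_left p s (hpq ▸ hx)
  · exact Ideal.mul_mem_right x p (Submodule.mem_finsetInf.1 hs p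
      (Finset.mem_erase.2 ⟨hpq, hfin.mem_toFinset.2 hp⟩))

theorem dvd_of_forall {a b : R} (hb : b ≠ 0)
    (h : ∀ p : Ideal R, p.IsPrime → p.height = 1 → ∃ s ∉ p, b ∣ s * a) : b ∣ a := by
  let K := FractionRing R
  have hbK : algebraMap R K b ≠ 0 := fun e => hb (IsFractionRing.injective R K (e.trans (map_zero _).symm))
  obtain ⟨w, hw⟩ := RefHull.NormalAlg.mem_range_of_forall_height_one
    (algebraMap R K a / algebraMap R K b) fun p hp hp1 => by
      obtain ⟨s, hs, c, hc⟩ := h p hp hp1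
      exact ⟨c, s, hs, by rw [mul_div_assoc', ← map_mul, hc, map_mul, mul_div_cancel_left₀ _ hbK]⟩
  refine ⟨w, IsFractionRing.injective R K ?_⟩
  rw [map_mul, hw, mul_div_cancel₀ _ hbK]

/-- `V(f)` is reduced if `f` vanishes simply at each of its components. -/
theorem isReduced_of_forall {f : R} (hf0 : f ≠ 0)
    (h : ∀ q : Ideal R, q.IsPrime → q.height = 1 → f ∈ q → ¬ Bad q f) :
    IsReduced (R ⧸ Ideal.span {f}) := by
  rw [← Ideal.isRadical_iff_quotient_reduced]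
  intro x hx
  refine Ideal.mem_span_singleton.2 (dvd_of_forall hf0 fun q hq hq1 => ?_)
  by_cases hfq : f ∈ q
  · have hxq : x ∈ q :=
      hq.isRadical (Ideal.radical_mono (by simpa [Ideal.span_le] using hfq) hx)
    obtain ⟨π, hπq, hπ⟩ := exists_uniformizer hq1
    obtain ⟨s₁, hs₁, a, ha⟩ := hπ x hxq
    obtain ⟨s₂, hs₂, b, hb⟩ := hπ f hfq
    have hbq : b ∉ q := fun hbq => h q hq hq1 hfq
      ⟨s₂, hs₂, by rw [hb, pow_two]; exact Ideal.mul_mem_mul hπq hbq⟩
    refine ⟨b * s₁, fun hm => (hq.mem_or_mem hm).elim hbq hs₁, s₂ * a, ?_⟩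
    calc b * s₁ * x = b * (s₁ * x) := by ring
      _ = (π * b) * a := by rw [ha]; ring
      _ = _ := by rw [← hb]; ring
  · exact ⟨f, hfq, x, rfl⟩

/-- A perturbation of `f` inside `J` vanishing simply at `q`. -/
theorem exists_perturbation {J : Ideal R} (hJ : J.IsRadical) (hJ0 : J ≠ ⊥) {f : R} (hf0 : f ≠ 0)
    (hfJ : f ∈ J) (Q : Finset (Ideal R)) (hQ : ∀ p ∈ Q, p.IsPrime ∧ p.height = 1 ∧ f ∈ p)
    {q : Ideal R} [q.IsPrime] (hq : q.height = 1) (hfq : f ∈ q) (hbad : Bad q f)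
    (E : Ideal R) (hE : ¬ E ≤ q) :
    ∃ g : R, g ∈ E ∧ f + g ∈ J ∧ f + g ≠ 0 ∧ f + g ∈ q ∧ ¬ Bad q (f + g) ∧
      ∀ p ∈ Q, p ≠ q → f + g ∈ p ∧ ∃ w ∉ p, f + g ∣ w * f := by
  classical
  obtain ⟨π, hπq, hπ⟩ := exists_uniformizer hq
  obtain ⟨j, hjq, hjJ⟩ : ∃ j ∉ q, j * π ∈ J := by
    by_cases hle : J ≤ q
    · have hmin : q ∈ J.minimalPrimes := by
        obtain ⟨p, hp, hpq⟩ := Ideal.exists_minimalPrimes_le hle
        haveI := hp.1.1
        rcases hpq.lt_or_eq with h | h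
        · have h1 := (Ideal.height_add_one_le_of_lt_of_isPrime h).trans hq.le
          have h2 : p.height = 0 :=
            le_antisymm ((ENat.add_le_add_iff_right ENat.one_ne_top).1 (h1.trans_eq (zero_add 1).symm))
              bot_le
          rw [Ideal.height_eq_zero_iff_eq_bot.1 h2] at hp
          exact absurd (le_bot_iff.1 hp.1.2) hJ0
        · exact h ▸ hp
      obtain ⟨s, hs, hsx⟩ := exists_notMem_mul_le_radical hmin
      exact ⟨s, hs, hJ (hsx π hπq)⟩
    · obtain ⟨j, hj, hjq⟩ := SetLike.not_le_iff_exists.1 hle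
      exact ⟨j, hjq, J.mul_mem_right π hj⟩
  obtain ⟨e, heE, heq⟩ := SetLike.not_le_iff_exists.1 hE
  have ha : ∀ p : Ideal R, ∃ a : R, p ∈ Q → p ≠ q →
      a ∉ q ∧ a ∈ p ∧ ∃ s ∉ p, ∃ c ∈ p, s * a = f * c := by
    intro p
    by_cases hpQ : p ∈ Q ∧ p ≠ q
    · obtain ⟨⟨hp, hp1, hfp⟩, hne⟩ := And.intro (hQ p hpQ.1) hpQ.2
      haveI := hp
      have hmin : p ∈ (Ideal.span {f} * p).minimalPrimes := by
        refine ⟨⟨hp, Ideal.mul_le_right⟩, fun p' hp' hle => ?_⟩
        rcases (hp'.1.mul_le.1 hp'.2) with h | h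
        · exact (mem_minimalPrimes hp1 hf0 hfp).2 ⟨hp'.1, h⟩ hle
        · exact h
      obtain ⟨s, hs, hsx⟩ := exists_notMem_mul_le_radical hmin
      obtain ⟨x, hxp, hxq⟩ := SetLike.not_le_iff_exists.1 fun h => hne (eq_of_le hp1 hq h)
      obtain ⟨n, hn⟩ := hsx x hxp
      obtain ⟨c, hc, hfc⟩ := Ideal.mem_span_singleton_mul.1 (Ideal.mul_mem_left _ (s * x) hn)
      refine ⟨x ^ (n + 1), fun _ _ => ⟨fun h => hxq (Ideal.IsPrime.mem_of_pow_mem ‹_› _ h),
        Ideal.pow_mem_of_mem p hxp _ (Nat.succ_pos n), s ^ (n + 1),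
        fun h => hs (hp.mem_of_pow_mem _ h), c, hc, ?_⟩⟩
      rw [hfc]; ring
    · exact ⟨0, fun h1 h2 => absurd ⟨h1, h2⟩ hpQ⟩
  choose a ha using ha
  let P : R := ∏ p ∈ Q.erase q, a p
  let g : R := (j * π) * (e * P)
  have hPq : P ∉ q := fun h => by
    obtain ⟨p, hp, hap⟩ := (Ideal.IsPrime.prod_mem_iff (p := q)).1 h
    obtain ⟨hne, hpQ⟩ := Finset.mem_erase.1 hp
    exact (ha p hpQ hne).1 hap
  have hgq : g ∈ q := q.mul_mem_right _ (q.mul_mem_left j hπq)
  have hgbad : ¬ Bad q g := by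
    rintro ⟨t, ht, htg⟩
    refine not_bad_uniformizer hq hπq hπ ⟨t * (j * (e * P)), fun h => ?_, by
      rw [show t * (j * (e * P)) * π = t * g by simp only [g]; ring]; exact htg⟩
    rcases Ideal.IsPrime.mem_or_mem ‹_› h with h | h
    · exact ht h
    rcases Ideal.IsPrime.mem_or_mem ‹_› h with h | h
    · exact hjq h
    · exact (Ideal.IsPrime.mem_or_mem ‹_› h).elim heq hPq
  have hsum : ¬ Bad q (f + g) := by
    rintro ⟨t, ht, htfg⟩
    obtain ⟨s, hs, hsf⟩ := hbad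
    refine hgbad ⟨s * t, fun h => (Ideal.IsPrime.mem_or_mem ‹_› h).elim hs ht, ?_⟩
    have := sub_mem (Ideal.mul_mem_left _ s htfg) (Ideal.mul_mem_left _ t hsf)
    convert this using 1
    ring
  refine ⟨g, E.mul_mem_left _ (E.mul_mem_right _ heE), J.add_mem hfJ (J.mul_mem_right _ hjJ),
    fun h => hsum (h ▸ bad_zero ‹_›), q.add_mem hfq hgq, hsum, fun p hp hne => ?_⟩
  obtain ⟨-, hap, s, hs, c, hc, hsc⟩ := ha p hp hne
  obtain ⟨r, hr⟩ : a p ∣ P := Finset.dvd_prod_of_mem _ (Finset.mem_erase.2 ⟨hne, hp⟩)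
  have hp' := (hQ p hp).1
  refine ⟨p.add_mem (hQ p hp).2.2 (p.mul_mem_left _ (p.mul_mem_left _ (hr ▸ p.mul_mem_right r hap))),
    s + c * ((j * π) * (e * r)), fun h => hs ?_, s, ?_⟩
  · exact (Submodule.add_mem_iff_left _ (p.mul_mem_right _ hc)).1 h
  · simp only [g, hr]
    linear_combination (-((j * π) * (e * r))) * hsc

end Groth.Agent.Lib.SquarefreeElt.Perturb
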