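import Groth.Agent.Lib.SquarefreeElt.Bound
import Groth.Agent.Lib.SquarefreeElt.Perturb
import Mathlib.RingTheory.Ideal.KrullsHeightTheorem

/-!
# A nonzero element with reduced zero scheme in a radical ideal of a normal local domain
-/

set_option autoImplicit false
set_option maxHeartbeats 400000
set_option linter.style.haveILetI false

universe u

namespace Groth.Agent.Lib.SquarefreeElt.Main

open Perturb IsLocalRing

variable {R : Type u} [CommRing R] [IsDomain R] [IsNoetherianRing R] [IsIntegrallyClosed R]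
  [IsLocalRing R]

omit [IsDomain R] [IsNoetherianRing R] [IsIntegrallyClosed R] [IsLocalRing R] in
theorem height_eq_one_of_mem_minimalPrimes [IsDomain R] [IsNoetherianRing R] {f : R} (hf0 : f ≠ 0)
    {q : Ideal R} (hq : q ∈ (Ideal.span {f}).minimalPrimes) : q.height = 1 := by
  haveI := hq.1.1
  refine le_antisymm (Ideal.height_le_one_of_isPrincipal_of_mem_minimalPrimes _ q hq) ?_
  rw [ENat.one_le_iff_ne_zero]
  intro h
  rw [Ideal.height_eq_zero_iff_eq_bot.1 h] at hq
  exact hf0 (by simpa using hq.1.2)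

omit [IsDomain R] [IsNoetherianRing R] [IsIntegrallyClosed R] [IsLocalRing R] in
theorem exists_max_nat (P : ℕ → Prop) (B : ℕ) (hB : ∀ k, P k → k ≤ B) (h0 : P 0) :
    ∃ k, P k ∧ ∀ m, P m → m ≤ k := by
  classical
  exact ⟨Nat.findGreatest P B, Nat.findGreatest_spec (Nat.zero_le B) h0,
    fun m hm => Nat.le_findGreatest (hB m hm) hm⟩

omit [IsDomain R] [IsNoetherianRing R] [IsIntegrallyClosed R] [IsLocalRing R] in
theorem exists_decomp (M Y : Ideal R) (f g : R) (h : g ∈ M * (Ideal.span {f} ⊔ Y)) :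
    ∃ a ∈ M, ∃ y' ∈ Y, g = a * f + y' := by
  rw [Ideal.mul_sup] at h
  obtain ⟨u, hu, v, hv, rfl⟩ := Submodule.mem_sup.1 h
  rw [mul_comm, Ideal.mem_span_singleton_mul] at hu
  obtain ⟨a, ha, rfl⟩ := hu
  exact ⟨a, ha, v, Ideal.mul_le_right hv, by rw [mul_comm a f]⟩

/-- Parameters completing `f₀`. -/
theorem exists_parameters {n : ℕ} (hd : ringKrullDim R = (n + 1 : ℕ))
    (hcat : ∀ q : Ideal R, q.IsPrime → q.height = 1 → ringKrullDim (R ⧸ q) = n)
    {f : R} (hf0 : f ≠ 0) (hfm : f ∈ maximalIdeal R) :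
    ∃ y : Fin n → R, (∃ N : ℕ, maximalIdeal R ^ N ≤ Ideal.span {f} ⊔ Ideal.span (Set.range y)) ∧
      Ideal.span {f} ⊔ Ideal.span (Set.range y) ≤ maximalIdeal R := by
  have hne : Ideal.span {f} ≠ (⊤ : Ideal R) := fun h =>
    (maximalIdeal.isMaximal R).ne_top (top_le_iff.1 (h ▸ (by simpa [Ideal.span_le] using hfm)))
  haveI : Nontrivial (R ⧸ Ideal.span {f}) := Ideal.Quotient.nontrivial_iff.2 hne
  haveI : IsLocalRing (R ⧸ Ideal.span {f}) :=
    .of_surjective' _ Ideal.Quotient.mk_surjective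
  have hdim : ringKrullDim (R ⧸ Ideal.span {f}) = n := by
    refine le_antisymm ?_ ?_
    · have h := ringKrullDim_quotient_succ_le_of_nonZeroDivisor (R := R) (r := f)
        (mem_nonZeroDivisors_of_ne_zero hf0)
      rw [hd] at h
      obtain ⟨k, hk⟩ := exists_nat_dim (R ⧸ Ideal.span {f})
      rw [hk] at h ⊢
      norm_cast at h ⊢
      omega
    · obtain ⟨q, hq⟩ := Ideal.nonempty_minimalPrimes hne
      rw [← hcat q hq.1.1 (height_eq_one_of_mem_minimalPrimes hf0 hq)]
      exact ringKrullDim_le_of_surjective (Ideal.Quotient.factor hq.1.2)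
        (Ideal.Quotient.factor_surjective hq.1.2)
  obtain ⟨s, hs, hcard⟩ :=
    (maximalIdeal (R ⧸ Ideal.span {f})).exists_finset_card_eq_height_of_isNoetherianRing
  have hheight : ((maximalIdeal (R ⧸ Ideal.span {f})).height : WithBot ℕ∞) = n := by
    rw [maximalIdeal_height_eq_ringKrullDim, hdim]
  rw [← hcard] at hheight
  have hsn : s.card = n := by exact_mod_cast hheight
  let e := (Finset.equivFinOfCardEq hsn).symm
  choose y hy using fun i => Ideal.Quotient.mk_surjective (I := Ideal.span {f}) (e i : R ⧸ Ideal.span {f})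
  have hrange : Set.range (Ideal.Quotient.mk (Ideal.span {f}) ∘ y) = (s : Set (R ⧸ Ideal.span {f})) := by
    ext z
    constructor
    · rintro ⟨i, rfl⟩; rw [Function.comp_apply, hy]; exact (e i).2
    · exact fun hz => ⟨e.symm ⟨z, hz⟩, by rw [Function.comp_apply, hy, Equiv.apply_symm_apply]⟩
  set I := Ideal.span {f} ⊔ Ideal.span (Set.range y) with hI
  have hmap : I.map (Ideal.Quotient.mk (Ideal.span {f})) = Ideal.span (s : Set (R ⧸ Ideal.span {f})) := by
    rw [hI, Ideal.map_sup, Ideal.map_quotient_self, bot_sup_eq, Ideal.map_span, ← Set.range_comp, hrange]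
  have hrad : maximalIdeal R ≤ I.radical := by
    rw [← Ideal.sInf_minimalPrimes]
    refine le_sInf fun p hp => ?_
    haveI := hp.1.1
    have hfp : Ideal.span {f} ≤ p := le_sup_left.trans hp.1.2
    have hprime : (p.map (Ideal.Quotient.mk (Ideal.span {f}))).IsPrime :=
      Ideal.map_isPrime_of_surjective Ideal.Quotient.mk_surjective (by rwa [Ideal.mk_ker])
    have h1 := hs.2 ⟨hprime, hmap ▸ Ideal.map_mono hp.1.2⟩
      (IsLocalRing.le_maximalIdeal hprime.ne_top)
    haveI hloc : IsLocalHom (Ideal.Quotient.mk (Ideal.span {f})) :=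
      .of_surjective _ Ideal.Quotient.mk_surjective
    intro m hm
    have h2 : Ideal.Quotient.mk (Ideal.span {f}) m ∈ p.map (Ideal.Quotient.mk (Ideal.span {f})) :=
      h1 (fun hu => hm (isUnit_of_map_unit (Ideal.Quotient.mk (Ideal.span {f})) m hu))
    obtain ⟨m', hm', hmm'⟩ := (Ideal.mem_map_iff_of_surjective _ Ideal.Quotient.mk_surjective).1 h2
    have := hfp (Ideal.Quotient.eq.1 hmm'.symm)
    simpa using p.add_mem this hm'
  refine ⟨y, ?_, ?_⟩
  · obtain ⟨N, hN⟩ := Ideal.exists_pow_le_of_le_radical_of_fg hrad (IsNoetherian.noetherian _)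
    exact ⟨N, hN⟩
  · refine IsLocalRing.le_maximalIdeal fun h => ?_
    have h1 : I.map (Ideal.Quotient.mk (Ideal.span {f})) = ⊤ := by rw [← hI] at h; rw [h, Ideal.map_top]
    rw [hmap] at h1
    exact (maximalIdeal.isMaximal _).ne_top (top_le_iff.1 (h1 ▸ hs.1.2))
where
  exists_nat_dim (S : Type u) [CommRing S] [IsLocalRing S] [IsNoetherianRing S] :
      ∃ k : ℕ, ringKrullDim S = k := by
    obtain ⟨k, hk⟩ := ENat.ne_top_iff_exists.1 (Ideal.height_ne_top
      (I := maximalIdeal S) (maximalIdeal.isMaximal S).ne_top)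
    exact ⟨k, by rw [← maximalIdeal_height_eq_ringKrullDim, ← hk]; rfl⟩

/-- Dimension one. -/
theorem exists_squarefree_of_dim_one (hd : ringKrullDim R = 1) (J : Ideal R) (hJ : J.IsRadical)
    (hJ0 : J ≠ ⊥) : ∃ f ∈ J, f ≠ 0 ∧ IsReduced (R ⧸ Ideal.span {f}) := by
  have hm : (maximalIdeal R).height = 1 := by
    have := maximalIdeal_height_eq_ringKrullDim (R := R)
    rw [hd] at this
    exact_mod_cast this
  obtain ⟨π, hπq, hπ⟩ := exists_uniformizer hm
  have hnb := not_bad_uniformizer hm hπq hπ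
  refine ⟨π, ?_, fun h => hnb (h ▸ bad_zero (maximalIdeal.isMaximal R).isPrime),
    isReduced_of_forall (fun h => hnb (h ▸ bad_zero (maximalIdeal.isMaximal R).isPrime))
      fun q hq hq1 _ => by
        haveI := hq
        rwa [eq_of_le hq1 hm (le_maximalIdeal hq.ne_top)]⟩
  refine hJ ?_
  rw [← Ideal.sInf_minimalPrimes, Submodule.mem_sInf]
  intro (p : Ideal R) hp
  haveI := hp.1.1
  rcases (le_maximalIdeal hp.1.1.ne_top).lt_or_eq with h | h
  · have h1 := Ideal.height_add_one_le_of_lt_of_isPrime h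
    rw [hm] at h1
    have h2 : p.height = 0 :=
      le_antisymm ((ENat.add_le_add_iff_right ENat.one_ne_top).1 (h1.trans_eq (zero_add 1).symm)) bot_le
    rw [Ideal.height_eq_zero_iff_eq_bot.1 h2] at hp
    exact absurd (le_bot_iff.1 hp.1.2) hJ0
  · rw [h]; exact hπq

/-- A radical ideal contains a nonzero element with reduced zero scheme. -/
theorem exists_squarefree {n : ℕ} (hd : ringKrullDim R = (n + 1 : ℕ))
    (hcat : ∀ q : Ideal R, q.IsPrime → q.height = 1 → ringKrullDim (R ⧸ q) = n)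
    (J : Ideal R) (hJ : J.IsRadical) (hJ0 : J ≠ ⊥) :
    ∃ f ∈ J, f ≠ 0 ∧ IsReduced (R ⧸ Ideal.span {f}) := by
  classical
  by_cases htop : J = ⊤
  · refine ⟨1, by simp [htop], one_ne_zero, ?_⟩
    have : Subsingleton (R ⧸ Ideal.span {(1 : R)}) :=
      Ideal.Quotient.subsingleton_iff.2 Ideal.span_singleton_one
    infer_instance
  rcases Nat.eq_zero_or_pos n with rfl | hn
  · exact exists_squarefree_of_dim_one (by simpa using hd) J hJ hJ0
  obtain ⟨f₀, hf₀J, hf₀⟩ := Submodule.exists_mem_ne_zero_of_ne_bot hJ0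
  obtain ⟨y, ⟨N, hN⟩, hIm⟩ := exists_parameters hd hcat hf₀ (le_maximalIdeal htop hf₀J)
  set Y := Ideal.span (Set.range y) with hY
  set I := Ideal.span {f₀} ⊔ Y with hI
  set B := HilbertSamuel.Basic.len (I : Submodule R R) with hB
  let P : ℕ → Prop := fun k => ∃ f ∈ J, f ≠ 0 ∧ Ideal.span {f} ⊔ Y = I ∧
    ∃ Q : Finset (Ideal R), (∀ q ∈ Q, q.IsPrime ∧ q.height = 1 ∧ f ∈ q) ∧ Q.card = k
  have hbound : ∀ k, P k → k ≤ B := by
    rintro k ⟨f, -, -, hfI, Q, hQ, rfl⟩
    exact Bound.card_le_len f n y hIm hN hfI.symm Q (fun q hq => (hQ q hq).1)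
      (fun q hq => hcat q (hQ q hq).1 (hQ q hq).2.1) (fun q hq q' hq' h => by
        haveI := (hQ q hq).1
        haveI := (hQ q' hq').1
        exact eq_of_le (hQ q' hq').2.1 (hQ q hq).2.1 h) (fun q hq => (hQ q hq).2.2)
  have h0 : P 0 := ⟨f₀, hf₀J, hf₀, rfl, ∅, by simp, by simp⟩
  obtain ⟨k, hk, hmax⟩ := exists_max_nat P B hbound h0
  obtain ⟨f, hfJ, hf0, hfI, Q₁, hQ₁, hcard⟩ := hk
  refine ⟨f, hfJ, hf0, isReduced_of_forall hf0 fun q hq hq1 hfq hbad => ?_⟩
  haveI := hq
  have hfin := (Ideal.span {f}).finite_minimalPrimes_of_isNoetherianRing R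
  let Q := hfin.toFinset
  have hQ : ∀ p ∈ Q, p.IsPrime ∧ p.height = 1 ∧ f ∈ p := fun p hp => by
    have hp' := hfin.mem_toFinset.1 hp
    exact ⟨hp'.1.1, height_eq_one_of_mem_minimalPrimes hf0 hp', by simpa [Ideal.span_le] using hp'.1.2⟩
  have hsub : Q₁ ⊆ Q := fun p hp => by
    haveI := (hQ₁ p hp).1
    exact hfin.mem_toFinset.2 (mem_minimalPrimes (hQ₁ p hp).2.1 hf0 (hQ₁ p hp).2.2)
  have hmge : 1 < (maximalIdeal R).height := by
    have h1 := maximalIdeal_height_eq_ringKrullDim (R := R)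
    rw [hd] at h1
    have h2 : (maximalIdeal R).height = ((n + 1 : ℕ) : ℕ∞) := by exact_mod_cast h1
    rw [h2]
    exact_mod_cast Nat.succ_lt_succ hn
  have hmq : ¬ maximalIdeal R ≤ q := fun h => by
    rw [le_antisymm h (le_maximalIdeal hq.ne_top), hq1] at hmge
    exact lt_irrefl _ hmge
  have hE : ¬ maximalIdeal R * I ≤ q := fun h => by
    rcases hq.mul_le.1 h with h | h
    · exact hmq h
    · exact hmq (hq.le_of_pow_le (hN.trans h))
  obtain ⟨g, hgE, hgJ, hg0, hgq, hgbad, hgQ⟩ :=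
    exists_perturbation hJ hJ0 hf0 hfJ Q hQ hq1 hfq hbad (maximalIdeal R * I) hE
  obtain ⟨a, ha, y', hy', hgeq⟩ := exists_decomp (maximalIdeal R) Y f g (by rw [hfI]; exact hgE)
  have hsame : Ideal.span {f + g} ⊔ Y = I := by
    rw [← hfI]
    refine le_antisymm (sup_le ?_ le_sup_right) (sup_le ?_ le_sup_right)
    · rw [Ideal.span_le, Set.singleton_subset_iff, hgeq, show f + (a * f + y') = (1 + a) * f + y' by ring]
      exact add_mem (Ideal.mem_sup_left (Ideal.mul_mem_left _ _ (Ideal.mem_span_singleton_self f)))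
        (Ideal.mem_sup_right hy')
    · rw [Ideal.span_le, Set.singleton_subset_iff]
      obtain ⟨u, hu⟩ : IsUnit (1 + a) := by
        by_contra hc
        exact (maximalIdeal.isMaximal R).ne_top ((Ideal.eq_top_iff_one _).2 (by
          simpa using sub_mem (show (1 + a) ∈ maximalIdeal R from hc) ha))
      have : f = (↑u⁻¹ : R) * (f + g) - (↑u⁻¹ : R) * y' := by
        rw [hgeq, show f + (a * f + y') = (1 + a) * f + y' by ring, ← hu, mul_add, ← mul_assoc,
          Units.inv_mul]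
        ring
      have hmem : (↑u⁻¹ : R) * (f + g) - (↑u⁻¹ : R) * y' ∈ Ideal.span {f + g} ⊔ Y :=
        sub_mem (Ideal.mem_sup_left (Ideal.mul_mem_left _ _ (Ideal.mem_span_singleton_self _)))
          (Ideal.mem_sup_right (Ideal.mul_mem_left _ _ hy'))
      rw [← this] at hmem
      exact hmem
  have hQg : ∀ p ∈ Q, p.IsPrime ∧ p.height = 1 ∧ f + g ∈ p := fun p hp => ⟨(hQ p hp).1, (hQ p hp).2.1, by
    by_cases hpq : p = q
    · rw [hpq]; exact hgq
    · exact (hgQ p hp hpq).1⟩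
  by_cases hnew : ∃ p : Ideal R, p.IsPrime ∧ p.height = 1 ∧ f + g ∈ p ∧ p ∉ Q
  · obtain ⟨p, hp, hp1, hpg, hpQ⟩ := hnew
    have := hmax (Q.card + 1) ⟨f + g, hgJ, hg0, hsame, insert p Q, fun r hr => by
      rcases Finset.mem_insert.1 hr with rfl | hr
      · exact ⟨hp, hp1, hpg⟩
      · exact hQg r hr, Finset.card_insert_of_notMem hpQ⟩
    have := Finset.card_le_card hsub
    omega
  push Not at hnew
  obtain ⟨π, hπq, hπ⟩ := exists_uniformizer hq1
  obtain ⟨v, hv⟩ : f + g ∣ f := dvd_of_forall hg0 fun p hp hp1 => by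
    by_cases hpg : f + g ∈ p
    · by_cases hpq : p = q
      · subst hpq
        obtain ⟨s₁, hs₁, a₁, ha₁⟩ := hπ f hfq
        obtain ⟨s₂, hs₂, b, hb⟩ := hπ (f + g) hgq
        have hbq : b ∉ p := fun hbq => hgbad
          ⟨s₂, hs₂, by rw [hb, pow_two]; exact Ideal.mul_mem_mul hπq hbq⟩
        refine ⟨b * s₁, fun h => (hp.mem_or_mem h).elim hbq hs₁, s₂ * a₁, ?_⟩
        calc b * s₁ * f = b * (s₁ * f) := by ring
          _ = (π * b) * a₁ := by rw [ha₁]; ring
          _ = _ := by rw [← hb]; ring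
      · exact (hgQ p (hnew p hp hp1 hpg) hpq).2
    · exact ⟨f + g, hpg, f, rfl⟩
  have hvq : v ∈ q := by
    by_contra hvq
    obtain ⟨s, hs, hsf⟩ := hbad
    exact hgbad ⟨s * v, fun h => (hq.mem_or_mem h).elim hs hvq, by
      rw [mul_assoc, mul_comm v, ← hv]; exact hsf⟩
  have hvm : v ∈ maximalIdeal R := le_maximalIdeal hq.ne_top hvq
  have hfY : f ∈ Y := by
    obtain ⟨u, hu⟩ : IsUnit (1 - v * (1 + a)) := by
      by_contra hc
      exact (maximalIdeal.isMaximal R).ne_top ((Ideal.eq_top_iff_one _).2 (by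
        simpa using add_mem (show (1 - v * (1 + a)) ∈ maximalIdeal R from hc)
          (Ideal.mul_mem_right (1 + a) _ hvm)))
    have h1 : (1 - v * (1 + a)) * f = v * y' := by
      rw [hgeq] at hv
      linear_combination hv
    have h2 : f = (↑u⁻¹ : R) * (v * y') := by rw [← h1, ← hu, Units.inv_mul_cancel_left]
    rw [h2]
    exact Y.mul_mem_left _ (Y.mul_mem_left _ hy')
  have hYI : Y = I := by rw [← hfI, sup_eq_right.2 (by simpa [Ideal.span_le] using hfY)]
  have hYtop : Y ≠ ⊤ := fun h =>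
    (maximalIdeal.isMaximal R).ne_top (top_le_iff.1 ((h.ge.trans hYI.le).trans hIm))
  obtain ⟨p, hp⟩ := Ideal.nonempty_minimalPrimes hYtop
  haveI := hp.1.1
  have hpm : p = maximalIdeal R :=
    le_antisymm (le_maximalIdeal hp.1.1.ne_top) (hp.1.1.le_of_pow_le (hN.trans (hYI.ge.trans hp.1.2)))
  have hspan : Y.height ≤ n := by
    refine (Ideal.height_le_spanFinrank Y hYtop).trans ?_
    have h1 := Submodule.spanFinrank_span_le_ncard_of_finite (R := R) (Set.finite_range y)
    have h2 : (Set.range y).ncard ≤ n := by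
      rw [← Set.image_univ]
      exact (Set.ncard_image_le Set.finite_univ).trans (by simp [Set.ncard_univ])
    exact_mod_cast h1.trans h2
  have heq : Y.height = (maximalIdeal R).height := by
    refine le_antisymm (Ideal.height_mono (hp.1.2.trans hpm.le)) ?_
    rw [Ideal.height_eq_inf_minimalPrimes Y]
    refine le_iInf₂ fun p' hp' => ?_
    haveI := hp'.1.1
    exact Ideal.height_mono (hp'.1.1.le_of_pow_le (hN.trans (hYI.ge.trans hp'.1.2)))
  rw [heq] at hspan
  have h1 := maximalIdeal_height_eq_ringKrullDim (R := R)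
  rw [hd] at h1
  have h2 : (maximalIdeal R).height = ((n + 1 : ℕ) : ℕ∞) := by exact_mod_cast h1
  rw [h2] at hspan
  norm_cast at hspan
  omega

end Groth.Agent.Lib.SquarefreeElt.Main
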